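import Cfsg.Agent.H57.J2Cls
import Cfsg.Prelude.Def_Transfer
import Cfsg.Agent.H57.J2SylL

set_option autoImplicit false

namespace Cfsg.Agent.H88.JJ

theorem j2_sylow5 {G : Type*} [Group G] [Finite G] (hG : Cfsg.Spor.IsoJ2 G) (P : Sylow 5 G) : Subgroup.centralizer ((P : Subgroup G) : Set G) = P ∧ Nat.card P = 25 ∧ Nat.card (Subgroup.normalizer ((P : Subgroup G) : Set G)) = 300 ∧ ∃ X Y : Subgroup G, Nat.card X = 5 ∧ Nat.card Y = 5 ∧ (∀ g : G, X.map (MulAut.conj g).toMonoidHom ≠ Y) ∧ ∀ W : Subgroup G, Nat.card W = 5 → ∃ g : G, W.map (MulAut.conj g).toMonoidHom = X ∨ W.map (MulAut.conj g).toMonoidHom = Y :=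
  H57.J2.sylow5 (hG.some.trans H57.J2.equivK) P

theorem j2_sylow3 {G : Type*} [Group G] [Finite G] (hG : Cfsg.Spor.IsoJ2 G) (P : Sylow 3 G) : Cfsg.IsExtraspecial 3 (P : Subgroup G) ∧ Nat.card P = 27 ∧ Nat.card (Subgroup.normalizer ((P : Subgroup G) : Set G)) = 216 ∧ ∃ a b : G, orderOf a = 3 ∧ orderOf b = 3 ∧ ¬ IsConj a b ∧ ∀ c : G, orderOf c = 3 → IsConj c a ∨ IsConj c b :=
  H57.J2.sylow3 (hG.some.trans H57.J2.equivK) P

theorem j2_sylow7 {G : Type*} [Group G] [Finite G] (hG : Cfsg.Spor.IsoJ2 G) (D : Sylow 7 G) : Subgroup.centralizer ((D : Subgroup G) : Set G) = D ∧ Nat.card (Subgroup.normalizer ((D : Subgroup G) : Set G)) = 42 ∧ ¬ IsMulCommutative (Subgroup.normalizer ((D : Subgroup G) : Set G)) :=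
  H57.J2.sylow7 (hG.some.trans H57.J2.equivK) D

end Cfsg.Agent.H88.JJ
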